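import Groth.Agent.FibDim.Semicont
import Groth.Agent.FibDim.Minimal
import Groth.Agent.FibDim.UnivOpenImages
import Groth.Agent.VarDim.Fibre
import Groth.Agent.VarDim.Proj
import Groth.Agent.VarDim.Local
import Groth.Prelude.Def_RegImm

/-!
# Dimension counting for morphisms of schemes of finite type over a field
-/

set_option linter.style.haveILetI false

namespace Groth.Agent.CharCyc46

open AlgebraicGeometry CategoryTheory Limits TopologicalSpace Topology Order

universe u

variable {k : Type u} [Field k] {X : Scheme.{u}} (p : X ⟶ Spec (CommRingCat.of k))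
  [LocallyOfFiniteType p]

/-- A natural number as a dimension. -/
abbrev dd (a : ℕ) : WithBot ℕ∞ := ((a : ℕ∞) : WithBot ℕ∞)

theorem dd_eq (a : ℕ) : dd a = (a : WithBot ℕ∞) := rfl

theorem iSup_add_le_iff {ι : Sort*} {f : ι → ℕ} {a n : ℕ} :
    (⨆ i, dd (f i)) + (a : WithBot ℕ∞) ≤ (n : WithBot ℕ∞) ↔ ∀ i, f i + a ≤ n := by
  constructor
  · intro h i
    have := le_trans (add_le_add_left (le_iSup (fun i => dd (f i)) i) (a : WithBot ℕ∞)) h
    rw [dd_eq] at this
    exact_mod_cast this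
  · intro h
    rcases Nat.lt_or_ge n a with hlt | hle
    · have : IsEmpty ι := ⟨fun i => by have := h i; omega⟩
      simp
    · have h1 : (⨆ i, dd (f i)) ≤ ((n - a : ℕ) : WithBot ℕ∞) := iSup_le fun i => by
        rw [dd_eq]
        exact_mod_cast Nat.le_sub_of_add_le (h i)
      refine le_trans (add_le_add_left h1 (a : WithBot ℕ∞)) (le_of_eq ?_)
      rw [← Nat.cast_add, Nat.sub_add_cancel hle]

theorem isLocallyClosed_eq {Z : Set X} (hZ : IsLocallyClosed Z) :
    ∃ W A : Set X, IsOpen W ∧ IsClosed A ∧ Z = W ∩ A := by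
  obtain ⟨U, A, hU, hA, rfl⟩ := hZ
  exact ⟨U, A, hU, hA, rfl⟩

theorem dim_eq_iSup {Z : Set X} (hZ : IsLocallyClosed Z) :
    topologicalKrullDim ↥Z = ⨆ z : ↥Z, dd (VarDim.deg p z.1) := by
  obtain ⟨W, A, hW, hA, rfl⟩ := isLocallyClosed_eq hZ
  exact FibDim.topologicalKrullDim_locClosed_eq_iSup_deg p hW hA

theorem dim_add_le_iff {Z : Set X} (hZ : IsLocallyClosed Z) (a n : ℕ) :
    topologicalKrullDim ↥Z + (a : WithBot ℕ∞) ≤ n ↔ ∀ z ∈ Z, VarDim.deg p z + a ≤ n := by
  rw [dim_eq_iSup p hZ, iSup_add_le_iff]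
  exact ⟨fun h z hz => h ⟨z, hz⟩, fun h z => h z.1 z.2⟩

theorem deg_le_dim {Z : Set X} (hZ : IsLocallyClosed Z) {z : X} (hz : z ∈ Z) :
    (VarDim.deg p z : WithBot ℕ∞) ≤ topologicalKrullDim ↥Z := by
  rw [dim_eq_iSup p hZ]
  exact le_iSup_of_le ⟨z, hz⟩ le_rfl

theorem dim_le_iff {Z : Set X} (hZ : IsLocallyClosed Z) (n : ℕ) :
    topologicalKrullDim ↥Z ≤ n ↔ ∀ z ∈ Z, VarDim.deg p z ≤ n := by
  simpa using dim_add_le_iff p hZ 0 n

theorem dim_eq_deg {Z : Set X} {η : X} (hη : IsGenericPoint η Z) :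
    topologicalKrullDim ↥Z = (VarDim.deg p η : WithBot ℕ∞) := by
  subst hη
  exact VarDim.topologicalKrullDim_closure_singleton p η

include p in
theorem noetherianSpace [CompactSpace X] : NoetherianSpace X := by
  haveI : IsLocallyNoetherian X := LocallyOfFiniteType.isLocallyNoetherian p
  haveI : IsNoetherian X := { }
  infer_instance

omit [LocallyOfFiniteType p] in
/-- A locally closed set of a Noetherian scheme is covered by the closures of finitely many of its points. -/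
theorem exists_finite_cover {Y : Scheme.{u}} [NoetherianSpace Y] {Z : Set Y} (hZ : IsLocallyClosed Z) :
    ∃ P : Finset Y, (∀ η ∈ P, η ∈ Z) ∧ Z ⊆ ⋃ η ∈ P, closure {η} := by
  classical
  obtain ⟨W, A, hW, hA, rfl⟩ := isLocallyClosed_eq hZ
  let O : Y.Opens := ⟨W, hW⟩
  haveI : NoetherianSpace (O : Scheme.{u}) := inferInstanceAs (NoetherianSpace (W : Set Y))
  obtain ⟨P, hP, hcov⟩ := FibDim.exists_finite_generic (hA.preimage O.ι.continuous)
  refine ⟨P.image O.ι, fun η hη => ?_, fun z hz => ?_⟩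
  · obtain ⟨t, ht, rfl⟩ := Finset.mem_image.1 hη
    exact ⟨t.2, hP t ht⟩
  · obtain ⟨t, ht, hzt⟩ := Set.mem_iUnion₂.1 (hcov (show O.ι ⟨z, hz.1⟩ ∈ A from hz.2))
    exact Set.mem_iUnion₂.2 ⟨O.ι t, Finset.mem_image_of_mem _ ht, specializes_iff_mem_closure.1
      ((specializes_iff_mem_closure.2 hzt).map O.ι.continuous)⟩

omit [LocallyOfFiniteType p] in
/-- Generizations, in the closure of the image of a locally closed set, of image points. -/
theorem exists_specializes_of_mem_closure_image {Y Y' : Scheme.{u}} [NoetherianSpace Y] (f : Y ⟶ Y')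
    {Z : Set Y} (hZ : IsLocallyClosed Z) {y : Y'} (hy : y ∈ closure (f '' Z)) :
    ∃ z ∈ Z, f z ⤳ y := by
  obtain ⟨P, hP, hcov⟩ := exists_finite_cover hZ
  have hsub : f '' Z ⊆ ⋃ η ∈ P, closure {f η} := by
    rintro _ ⟨z, hz, rfl⟩
    obtain ⟨η, hη, hzη⟩ := Set.mem_iUnion₂.1 (hcov hz)
    exact Set.mem_iUnion₂.2 ⟨η, hη, specializes_iff_mem_closure.1
      ((specializes_iff_mem_closure.2 hzη).map f.continuous)⟩
  obtain ⟨η, hη, hyη⟩ := Set.mem_iUnion₂.1
    (closure_minimal hsub (P.finite_toSet.isClosed_biUnion fun _ _ => isClosed_closure) hy)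
  exact ⟨η, hP η hη, specializes_iff_mem_closure.2 hyη⟩

section Morphism

variable {C : Scheme.{u}} (π : C ⟶ X) [LocallyOfFiniteType π]

/-- The points over which the fibre has dimension at least `j`. -/
def bset (j : ℕ) : Set X := {x : X | (j : WithBot ℕ∞) ≤ topologicalKrullDim ↥(π.fiber x)}

include p

theorem fdeg_eq_rd (c : C) : VarDim.fdeg π c = FibDim.rd π c := by
  have h := (VarDim.fdeg_eq_rdeg π p c).trans (FibDim.rd_eq_rdeg π c).symm
  exact_mod_cast h

theorem deg_split (c : C) : VarDim.deg (π ≫ p) c = VarDim.deg p (π c) + FibDim.rd π c := by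
  rw [VarDim.deg_comp_eq, fdeg_eq_rd p π]

omit p [LocallyOfFiniteType p] in
theorem mem_bset_iff (x : X) (j : ℕ) : x ∈ bset π j ↔ ∃ c, π c = x ∧ j ≤ FibDim.rd π c :=
  FibDim.le_topologicalKrullDim_fiber_iff π x j

/-- The dimension of a preimage is controlled by the sets `bset`. -/
theorem preimage_dim_le_iff {W : Set X} (hW : IsLocallyClosed W) (a n : ℕ) :
    topologicalKrullDim ↥(π ⁻¹' W) + (a : WithBot ℕ∞) ≤ n ↔
      ∀ j : ℕ, ∀ x ∈ W, x ∈ bset π j → VarDim.deg p x + a + j ≤ n := by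
  rw [dim_add_le_iff (π ≫ p) (hW.preimage π.continuous)]
  constructor
  · intro h j x hx hj
    obtain ⟨c, rfl, hc⟩ := (mem_bset_iff π x j).1 hj
    have := h c hx
    rw [deg_split p π] at this
    omega
  · intro h c hc
    have := h (FibDim.rd π c) (π c) hc ((mem_bset_iff π _ _).2 ⟨c, rfl, le_rfl⟩)
    rw [deg_split p π]
    omega

theorem exists_bset_specializes [CompactSpace C] {j : ℕ} {x : X} (hx : x ∈ closure (bset π j)) :
    ∃ w ∈ bset π j, w ⤳ x := by
  haveI := noetherianSpace (π ≫ p)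
  let D : Set C := {c | (j : WithBot ℕ∞) ≤ FlatMor.fibreDimAt π c}
  have hD : IsClosed D := FibDim.isClosed_le_fibreDimAt π j
  have hsub : bset π j ⊆ π '' D := fun y hy => by
    obtain ⟨c, rfl, hc⟩ := (mem_bset_iff π y j).1 hy
    exact ⟨c, le_trans (Nat.cast_le.2 hc) (FibDim.rd_le_fibreDimAt π specializes_rfl rfl), rfl⟩
  obtain ⟨c, hc, hcx⟩ := exists_specializes_of_mem_closure_image π hD.isLocallyClosed (closure_mono hsub hx)
  refine ⟨π c, (mem_bset_iff π _ j).2 ?_, hcx⟩
  obtain ⟨z, -, hfz, he, -⟩ := FibDim.exists_fibreDimAt_eq π c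
  have hj : (j : WithBot ℕ∞) ≤ (FibDim.rd π z : WithBot ℕ∞) := le_of_le_of_eq hc he
  exact ⟨z, hfz, Nat.cast_le.1 hj⟩

theorem dim_closure_bset_le [CompactSpace C] {n : ℕ} (hn : topologicalKrullDim ↥C ≤ n) (j : ℕ) :
    topologicalKrullDim ↥(closure (bset π j)) + (j : WithBot ℕ∞) ≤ n := by
  rw [dim_add_le_iff p isClosed_closure.isLocallyClosed]
  intro x hx
  obtain ⟨w, hw, hwx⟩ := exists_bset_specializes p π hx
  obtain ⟨c, rfl, hc⟩ := (mem_bset_iff π w j).1 hw
  have h1 := VarDim.deg_le_of_specializes p hwx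
  have h2 : VarDim.deg (π ≫ p) c ≤ n := by
    rw [VarDim.topologicalKrullDim_eq_iSup_deg (π ≫ p)] at hn
    exact Nat.cast_le.1 (le_trans (le_iSup (fun x => dd (VarDim.deg (π ≫ p) x)) c) hn)
  rw [deg_split p π] at h2
  omega

theorem dim_le_of_bset_le {n : ℕ}
    (h : ∀ j : ℕ, topologicalKrullDim ↥(closure (bset π j)) + (j : WithBot ℕ∞) ≤ n) :
    topologicalKrullDim ↥C ≤ n := by
  rw [VarDim.topologicalKrullDim_eq_iSup_deg (π ≫ p)]
  refine iSup_le fun c => ?_
  have := (dim_add_le_iff p isClosed_closure.isLocallyClosed _ _).1 (h (FibDim.rd π c)) (π c)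
    (subset_closure ((mem_bset_iff π _ _).2 ⟨c, rfl, le_rfl⟩))
  rw [← deg_split p π] at this
  exact Nat.cast_le.2 this

include π in
theorem dim_le_of_components {n : ℕ}
    (h : ∀ P ∈ irreducibleComponents (C : Type u), topologicalKrullDim ↥P = n) :
    topologicalKrullDim ↥C ≤ n := by
  rw [VarDim.topologicalKrullDim_eq_iSup_deg (π ≫ p)]
  refine iSup_le fun c => ?_
  have h1 := deg_le_dim (π ≫ p) (isClosed_irreducibleComponent (x := c)).isLocallyClosed mem_irreducibleComponent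
  rw [h _ (irreducibleComponent_mem_irreducibleComponents c)] at h1
  exact h1

end Morphism

end Groth.Agent.CharCyc46

namespace Groth.Agent.CharCyc46

open AlgebraicGeometry CategoryTheory Limits TopologicalSpace Topology Order

universe u

variable {k : Type u} [Field k] {X : Scheme.{u}} (p : X ⟶ Spec (CommRingCat.of k))
  [LocallyOfFiniteType p]

theorem dim_subtype {S : Set X} (Q : Set ↥S) :
    topologicalKrullDim ↥Q = topologicalKrullDim ↥(Subtype.val '' Q) :=
  FibDim.topologicalKrullDim_range_closed Q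

theorem isLocallyClosed_image {S : Set X} (hS : IsLocallyClosed S) {Q : Set ↥S} (hQ : IsClosed Q) :
    IsLocallyClosed (Subtype.val '' Q) := by
  obtain ⟨A, hA, rfl⟩ := isClosed_induced_iff.1 hQ
  rw [Subtype.image_preimage_coe]
  exact hS.inter hA.isLocallyClosed

/-- The generic point of a component of a piece of a component. -/
theorem component_inter {T : Set X} (hT : IsLocallyClosed T) (P : Set X) (hP : P ∈ irreducibleComponents X)
    {n : ℕ} (hn : topologicalKrullDim ↥P = n) (Q : Set ↥(P ∩ T)) (hQ : Q ∈ irreducibleComponents ↥(P ∩ T)) :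
    ∃ ζ η : X, ζ ⤳ η ∧ P = closure {ζ} ∧ VarDim.deg p ζ = n ∧ η ∈ T ∧
      topologicalKrullDim ↥Q = (VarDim.deg p η : WithBot ℕ∞) ∧
      ∀ y, ζ ⤳ y → y ∈ T → y ⤳ η → y = η := by
  obtain ⟨ζ, rfl, -⟩ := FDescent.exists_maximal_of_mem_irreducibleComponents hP
  have hS : IsLocallyClosed (closure {ζ} ∩ T) := isClosed_closure.isLocallyClosed.inter hT
  haveI : QuasiSober ↥(closure {ζ} ∩ T) := by
    obtain ⟨W, A, hW, hA, he⟩ := isLocallyClosed_eq hS
    have : QuasiSober ↥W := hW.isOpenEmbedding_subtypeVal.quasiSober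
    have h1 : QuasiSober ↥(Subtype.val ⁻¹' A : Set W) :=
      (hA.preimage continuous_subtype_val).isClosedEmbedding_subtypeVal.quasiSober
    let e : ↥(Subtype.val ⁻¹' A : Set W) ≃ₜ ↥(closure {ζ} ∩ T) :=
      (IsEmbedding.subtypeVal.homeomorphImage _).trans
        (Homeomorph.setCongr ((Subtype.image_preimage_coe W A).trans he.symm))
    exact e.symm.isClosedEmbedding.quasiSober
  obtain ⟨η, rfl, hη⟩ := FDescent.exists_maximal_of_mem_irreducibleComponents hQ
  refine ⟨ζ, η.1, specializes_iff_mem_closure.2 η.2.1, rfl, ?_, η.2.2, ?_, fun y h1 h2 h3 => ?_⟩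
  · rw [VarDim.topologicalKrullDim_closure_singleton p] at hn
    exact Nat.cast_injective hn
  · have hv : ∀ z : ↥(closure {ζ} ∩ T), z ∈ closure ({η} : Set ↥(closure {ζ} ∩ T)) ↔ η.1 ⤳ z.1 := fun z => by
      rw [← specializes_iff_mem_closure, subtype_specializes_iff]
    rw [dim_subtype, dim_eq_iSup p (isLocallyClosed_image hS isClosed_closure)]
    refine le_antisymm (iSup_le fun z => ?_) (le_iSup_of_le ⟨η.1, η, subset_closure rfl, rfl⟩ le_rfl)
    obtain ⟨_, w, hw, rfl⟩ := z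
    exact Nat.cast_le.2 (VarDim.deg_le_of_specializes p ((hv w).1 hw))
  · exact congrArg Subtype.val (hη ⟨y, specializes_iff_mem_closure.1 h1, h2⟩ ((subtype_specializes_iff _ _).2 h3))

theorem deg_add_le_of_mem {P T : Set X} (hS : IsLocallyClosed (P ∩ T))
    (z : ↥(P ∩ T)) (hz : z ∈ irreducibleComponent z) {a n : ℕ}
    (h : topologicalKrullDim ↥(irreducibleComponent z) + (a : WithBot ℕ∞) ≤ n) :
    VarDim.deg p z.1 + a ≤ n := by
  rw [dim_subtype, dim_add_le_iff p (isLocallyClosed_image hS isClosed_irreducibleComponent)] at h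
  exact h _ ⟨z, hz, rfl⟩

end Groth.Agent.CharCyc46
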