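import Groth.Agent.CharCyc46.Dim

/-!
# Regular immersions cut down the dimension by at most their codimension
-/

set_option linter.style.haveILetI false

namespace Groth.Agent.CharCyc46

open AlgebraicGeometry CategoryTheory Limits TopologicalSpace Topology Order

universe u

/-- Membership of a point of an affine open in a basic open. -/
theorem fromSpec_mem_basicOpen {Y : Scheme.{u}} {V : Y.Opens} (hV : IsAffineOpen V) (r : Γ(Y, V))
    (R : PrimeSpectrum Γ(Y, V)) : hV.fromSpec R ∈ Y.basicOpen r ↔ r ∉ R.asIdeal := by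
  have h := congrArg (fun O : TopologicalSpace.Opens (PrimeSpectrum Γ(Y, V)) => R ∈ O) (hV.fromSpec_preimage_basicOpen r)
  exact iff_of_eq h

variable {k : Type u} [Field k] {X W : Scheme.{u}} (p : X ⟶ Spec (CommRingCat.of k))
  [LocallyOfFiniteType p] [CompactSpace X]

include p

theorem quasiCompact_of_immersion (ι : W ⟶ X) [IsImmersion ι] : QuasiCompact ι := by
  haveI := noetherianSpace p
  haveI : NoetherianSpace W := ι.isEmbedding.isInducing.noetherianSpace
  infer_instance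

/-- The image of a regular immersion of codimension `c` is locally the zero locus of `c` functions. -/
theorem exists_equations (ι : W ⟶ X) (κ : RegImm.Kind) (c : ℕ) (h : RegImm.IsRegularImmersionOfCodim κ c ι)
    {x : X} (hx : x ∈ Set.range ι) :
    ∃ U : X.Opens, x ∈ U ∧ ∃ rs : List Γ(X, U), rs.length = c ∧
      ∀ y ∈ U, y ∈ Set.range ι ↔ ∀ s ∈ rs, y ∉ X.basicOpen s := by
  haveI := h.1
  haveI := quasiCompact_of_immersion p ι
  obtain ⟨w, rfl⟩ := hx
  obtain ⟨U, hwU, hci, rs, hlen, -, hker⟩ := h.2 w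
  refine ⟨U.1, hwU, rs, hlen, fun y hy => ?_⟩
  have hclosed : closure (Set.range ι) ∩ (U.1 : Set X) = Set.range ι ∩ (U.1 : Set X) := by
    refine subset_antisymm ?_ (Set.inter_subset_inter_left _ subset_closure)
    rintro z ⟨hz, hzU⟩
    refine ⟨?_, hzU⟩
    by_contra hn
    have hr : IsClosed (Set.range (ι ∣_ U.1)) := (ι ∣_ U.1).isClosedEmbedding.isClosed_range
    obtain ⟨O, hO, hOe⟩ := isOpen_induced_iff.1 hr.isOpen_compl
    have hzO : z ∈ O := hOe.ge (show (⟨z, hzU⟩ : U.1) ∈ (Set.range (ι ∣_ U.1))ᶜ from fun ⟨t, ht⟩ => hn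
      ⟨t.1, by rw [← morphismRestrict_base_coe ι U.1 t]; exact congrArg Subtype.val ht⟩)
    obtain ⟨_, ⟨hzO', hzU'⟩, t, rfl⟩ := mem_closure_iff.1 hz _ (hO.inter U.1.isOpen) ⟨hzO, hzU⟩
    exact (hOe.le (show (⟨ι t, hzU'⟩ : U.1) ∈ Subtype.val ⁻¹' O from hzO'))
      ⟨⟨t, hzU'⟩, Subtype.ext (morphismRestrict_base_coe ι U.1 _)⟩
  have key := ι.ker.coe_support_inter U
  rw [Scheme.Hom.support_ker, Scheme.Hom.ker_apply, hclosed] at key
  constructor
  · intro hr s hs
    exact (Scheme.mem_zeroLocus_iff _ _ _).1 (key.le ⟨hr, hy⟩).1 s (hker.ge (Ideal.subset_span hs))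
  · intro hs
    refine (key.ge ⟨(Scheme.mem_zeroLocus_iff _ _ _).2 fun s hs' => ?_, hy⟩).1
    rw [SetLike.mem_coe, hker] at hs'
    have hle : Ideal.ofList rs ≤ (U.2.primeIdealOf ⟨y, hy⟩).asIdeal := Ideal.span_le.2 fun t ht => by
      by_contra hn
      have h5 := (fromSpec_mem_basicOpen U.2 t (U.2.primeIdealOf ⟨y, hy⟩)).2 hn
      rw [U.2.fromSpec_primeIdealOf] at h5
      exact hs t ht h5
    intro hb
    have h6 := (fromSpec_mem_basicOpen U.2 s (U.2.primeIdealOf ⟨y, hy⟩)).1 (by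
      rw [U.2.fromSpec_primeIdealOf]; exact hb)
    exact h6 (hle hs')

variable {C : Scheme.{u}} (π : C ⟶ X) [LocallyOfFiniteType π]

/-- A maximal point of `closure {ζ} ∩ π⁻¹(ι W)` has degree at least `deg ζ - c`. -/
theorem deg_le_add_of_maximal (ι : W ⟶ X) (κ : RegImm.Kind) (c : ℕ)
    (h : RegImm.IsRegularImmersionOfCodim κ c ι) {ζ η : C} (hζη : ζ ⤳ η) (hη : π η ∈ Set.range ι)
    (hmax : ∀ y, ζ ⤳ y → π y ∈ Set.range ι → y ⤳ η → y = η) :
    VarDim.deg (π ≫ p) ζ ≤ VarDim.deg (π ≫ p) η + c := by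
  classical
  obtain ⟨U, hU, rs, hlen, heq⟩ := exists_equations p ι κ c h hη
  obtain ⟨V, hV, hηV, hVU⟩ := exists_isAffineOpen_mem_and_subset (x := η) (U := π ⁻¹ᵁ U) hU
  obtain ⟨P, rfl⟩ := VarDim.exists_fromSpec_eq hV hηV
  obtain ⟨Q, rfl⟩ := VarDim.exists_fromSpec_eq hV (hζη.mem_open V.isOpen hηV)
  obtain ⟨_, hft⟩ := VarDim.exists_algebra (π ≫ p) hV
  let s : Finset Γ(C, V) := (rs.map fun r => π.appLE U V hVU r).toFinset
  have hcard : s.card ≤ c := (List.toFinset_card_le _).trans_eq (by rw [List.length_map, hlen])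
  have hmem : ∀ R : PrimeSpectrum Γ(C, V), π (hV.fromSpec R) ∈ Set.range ι ↔ ∀ t ∈ s, t ∈ R.asIdeal := by
    intro R
    have hRV : hV.fromSpec R ∈ V := VarDim.fromSpec_mem hV R
    rw [heq _ (hVU hRV)]
    simp only [s, List.mem_toFinset, List.mem_map, forall_exists_index, and_imp, forall_apply_eq_imp_iff₂]
    refine forall₂_congr fun r _ => ?_
    have h2 : π (hV.fromSpec R) ∈ X.basicOpen r ↔ hV.fromSpec R ∈ C.basicOpen (π.appLE U V hVU r) := by
      simp only [Scheme.Hom.appLE, CommRingCat.comp_apply]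
      rw [Scheme.basicOpen_res, ← Scheme.preimage_basicOpen]
      exact ⟨fun hh => ⟨hRV, hh⟩, fun hh => hh.2⟩
    rw [h2]
    exact (not_congr (fromSpec_mem_basicOpen hV _ R)).trans not_not
  have hQP : Q.asIdeal ≤ P.asIdeal := (VarDim.fromSpec_specializes_iff hV Q P).1 hζη
  have hmin : P.asIdeal ∈ (Q.asIdeal ⊔ Ideal.span (s : Set Γ(C, V))).minimalPrimes := by
    refine ⟨⟨P.2, sup_le hQP (Ideal.span_le.2 ((hmem P).1 hη))⟩, fun J hJ hJP => ?_⟩
    have := hmax (hV.fromSpec ⟨J, hJ.1⟩) ((VarDim.fromSpec_specializes_iff hV _ _).2 (le_sup_left.trans hJ.2))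
      ((hmem ⟨J, hJ.1⟩).2 fun t ht => hJ.2 (Ideal.mem_sup_right (Ideal.subset_span ht)))
      ((VarDim.fromSpec_specializes_iff hV _ _).2 hJP)
    exact (congrArg PrimeSpectrum.asIdeal (hV.fromSpec.isOpenEmbedding.injective this)).ge
  have hfin := VarDim.ProjN.coheight_le_of_mem_minimalPrimes_sup (k := k) s hmin
  rw [VarDim.deg_eq_coheight (π ≫ p) hV Q, VarDim.deg_eq_coheight (π ≫ p) hV P] at hfin
  have h4 : VarDim.deg (π ≫ p) (hV.fromSpec Q) ≤ VarDim.deg (π ≫ p) (hV.fromSpec P) + s.card :=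
    by exact_mod_cast hfin
  omega

end Groth.Agent.CharCyc46
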