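import Groth.Agent.CharCyc46.Dim
import Groth.Agent.FibDim.BaseChange
import Mathlib.AlgebraicGeometry.Morphisms.UniversallyInjective
import Mathlib.AlgebraicGeometry.IdealSheaf.Subscheme

/-!
# Well intersection of two closed subsets with respect to a morphism
-/

set_option linter.style.haveILetI false

namespace Groth.Agent.CharCyc46

open AlgebraicGeometry CategoryTheory Limits TopologicalSpace Topology Order

universe u

variable {X S : Scheme.{u}} (f : X ⟶ S)

/-- The part of `Y ×_S Z` outside the diagonal. -/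
def offDiag (Y Z : Set X) : Set ↥(pullback f f) :=
  {p : ↥(pullback f f) | pullback.fst f f p ∈ Y ∧ pullback.snd f f p ∈ Z ∧ p ∉ Set.range (pullback.diagonal f)}

theorem fst_diagonal (x : X) : pullback.fst f f (pullback.diagonal f x) = x := by
  rw [← Scheme.Hom.comp_apply, pullback.diagonal_fst]; rfl

theorem snd_diagonal (x : X) : pullback.snd f f (pullback.diagonal f x) = x := by
  rw [← Scheme.Hom.comp_apply, pullback.diagonal_snd]; rfl

theorem not_mem_range_diagonal {p : ↥(pullback f f)} (h : pullback.fst f f p ≠ pullback.snd f f p) :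
    p ∉ Set.range (pullback.diagonal f) := by
  rintro ⟨x, rfl⟩
  exact h (by rw [fst_diagonal, snd_diagonal])

theorem isLocallyClosed_offDiag [IsSeparated f] {Y Z : Set X} (hY : IsClosed Y) (hZ : IsClosed Z) :
    IsLocallyClosed (offDiag f Y Z) := by
  refine ⟨(Set.range (pullback.diagonal f))ᶜ, (pullback.fst f f) ⁻¹' Y ∩ (pullback.snd f f) ⁻¹' Z,
    (pullback.diagonal f).isClosedEmbedding.isClosed_range.isOpen_compl,
    (hY.preimage (pullback.fst f f).continuous).inter (hZ.preimage (pullback.snd f f).continuous), ?_⟩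
  ext p
  exact ⟨fun ⟨h1, h2, h3⟩ => ⟨h3, h1, h2⟩, fun ⟨h3, h1, h2⟩ => ⟨h1, h2, h3⟩⟩

section Field

variable {k : Type u} [Field k] (q : S ⟶ Spec (CommRingCat.of k)) [LocallyOfFiniteType q]
  [LocallyOfFiniteType f]

theorem deg_fst_le (p : ↥(pullback f f)) :
    VarDim.deg (f ≫ q) (pullback.fst f f p) ≤ VarDim.deg (pullback.fst f f ≫ f ≫ q) p := by
  rw [deg_split (f ≫ q) (pullback.fst f f)]
  omega

/-- The basic inequality behind both consequences of well intersection. -/
theorem dim_base_le [CompactSpace S] [IsSeparated f] [Nonempty S] {Y Z : Set X} (hY : IsClosed Y) (hZ : IsClosed Z)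
    {η ζ : X} (hη : IsGenericPoint η Y) (hζ : IsGenericPoint ζ Z)
    (h : topologicalKrullDim ↥(offDiag f Y Z) + topologicalKrullDim ↥S ≤
      topologicalKrullDim ↥Y + topologicalKrullDim ↥Z)
    {p : ↥(pullback f f)} (hp : p ∈ offDiag f Y Z)
    (hd : VarDim.deg (f ≫ q) η ≤ VarDim.deg (pullback.fst f f ≫ f ≫ q) p) :
    topologicalKrullDim ↥S ≤ topologicalKrullDim ↥Z := by
  have h1 := deg_le_dim (pullback.fst f f ≫ f ≫ q) (isLocallyClosed_offDiag f hY hZ) hp
  obtain ⟨s, -, -, hs⟩ := VarDim.exists_deg_eq_topologicalKrullDim q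
  rw [dim_eq_deg (f ≫ q) hη, dim_eq_deg (f ≫ q) hζ, hs] at h
  rw [dim_eq_deg (f ≫ q) hζ, hs]
  have h2 := le_trans (add_le_add_left h1 _) h
  have h3 : VarDim.deg (pullback.fst f f ≫ f ≫ q) p + VarDim.deg q s ≤
      VarDim.deg (f ≫ q) η + VarDim.deg (f ≫ q) ζ := by exact_mod_cast h2
  exact Nat.cast_le.2 (by omega)

end Field

section Radicial

variable {X' : Scheme.{u}}

theorem residueFieldMap_bijective {Y Y' : Scheme.{u}} (i : Y ⟶ Y') [IsPreimmersion i] (y : Y) :
    Function.Bijective (i.residueFieldMap y).hom := by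
  refine ⟨RingHom.injective _, fun a => ?_⟩
  obtain ⟨a, rfl⟩ := Y.residue_surjective y a
  obtain ⟨b, rfl⟩ := i.stalkMap_surjective y a
  exact ⟨Y'.residue (i y) b, congr($(Scheme.residue_residueFieldMap i y) b)⟩

/-- A morphism has purely inseparable residue extension at a point of a preimmersion if the composite does. -/
theorem isPurelyInseparable_of_comp (i : X' ⟶ X) [IsPreimmersion i] (y : X')
    (h : ((i ≫ f).residueFieldMap y).hom.IsPurelyInseparable) :
    (f.residueFieldMap (i y)).hom.IsPurelyInseparable := by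
  rw [Scheme.residueFieldMap_comp] at h
  letI := ((f.residueFieldMap (i y) ≫ i.residueFieldMap y).hom).toAlgebra
  letI := (f.residueFieldMap (i y)).hom.toAlgebra
  haveI : IsPurelyInseparable (S.residueField (f (i y))) (X'.residueField y) := h
  show IsPurelyInseparable (S.residueField (f (i y))) (X.residueField (i y))
  obtain ⟨q, _⟩ := ExpChar.exists (S.residueField (f (i y)))
  rw [isPurelyInseparable_iff_pow_mem _ q]
  intro a
  obtain ⟨n, b, hb⟩ := IsPurelyInseparable.pow_mem (S.residueField (f (i y))) q ((i.residueFieldMap y).hom a)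
  refine ⟨n, b, (residueFieldMap_bijective i y).1 ?_⟩
  rw [map_pow]
  exact hb

/-- If pairs of points of `V ∩ Y` over the same point only come from the diagonal, `f` is radicial there. -/
theorem radicial_of_diagonal {Y V : Set X} (hY : IsClosed Y) (hV : IsOpen V)
    (h : ∀ p : ↥(pullback f f), pullback.fst f f p ∈ V ∩ Y → pullback.snd f f p ∈ V ∩ Y →
      p ∈ Set.range (pullback.diagonal f)) :
    Set.InjOn f (V ∩ Y) ∧ ∀ x ∈ V ∩ Y, (f.residueFieldMap x).hom.IsPurelyInseparable := by
  let I := Scheme.IdealSheafData.vanishingIdeal (X := X) ⟨Y, hY⟩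
  let j := I.subschemeι
  let W : I.subscheme.Opens := ⟨j ⁻¹' V, hV.preimage j.continuous⟩
  let i := W.ι ≫ j
  have hmem : ∀ w, i w ∈ V ∩ Y := fun w => by
    refine ⟨w.2, ?_⟩
    have h2 : j (W.ι w) ∈ Set.range j := ⟨_, rfl⟩
    rw [I.range_subschemeι, Scheme.IdealSheafData.coe_support_vanishingIdeal] at h2
    exact h2
  have hsurj : ∀ x ∈ V ∩ Y, ∃ w, i w = x := fun x hx => by
    have h2 : x ∈ Set.range j := by
      rw [I.range_subschemeι, Scheme.IdealSheafData.coe_support_vanishingIdeal]
      exact hx.2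
    obtain ⟨t, rfl⟩ := h2
    exact ⟨⟨t, hx.1⟩, rfl⟩
  let m : pullback (i ≫ f) (i ≫ f) ⟶ pullback f f :=
    pullback.lift (pullback.fst _ _ ≫ i) (pullback.snd _ _ ≫ i) (by simp [pullback.condition])
  haveI : Mono m := by
    constructor
    intro Z a b hab
    apply pullback.hom_ext
    · have := hab =≫ pullback.fst f f
      simp only [m, Category.assoc, pullback.lift_fst] at this
      exact (cancel_mono i).1 (by simpa only [Category.assoc] using this)
    · have := hab =≫ pullback.snd f f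
      simp only [m, Category.assoc, pullback.lift_snd] at this
      exact (cancel_mono i).1 (by simpa only [Category.assoc] using this)
  have hinj : Function.Injective m := m.injective
  have hm1 : m ≫ pullback.fst f f = pullback.fst (i ≫ f) (i ≫ f) ≫ i := pullback.lift_fst _ _ _
  have hm2 : m ≫ pullback.snd f f = pullback.snd (i ≫ f) (i ≫ f) ≫ i := pullback.lift_snd _ _ _
  have hd : pullback.diagonal (i ≫ f) ≫ m = i ≫ pullback.diagonal f := by
    apply pullback.hom_ext
    · calc (pullback.diagonal (i ≫ f) ≫ m) ≫ pullback.fst f f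
          = (pullback.diagonal (i ≫ f) ≫ pullback.fst (i ≫ f) (i ≫ f)) ≫ i :=
            (Category.assoc _ _ _).trans ((congrArg _ hm1).trans (Category.assoc _ _ _).symm)
        _ = (i ≫ pullback.diagonal f) ≫ pullback.fst f f := by simp
    · calc (pullback.diagonal (i ≫ f) ≫ m) ≫ pullback.snd f f
          = (pullback.diagonal (i ≫ f) ≫ pullback.snd (i ≫ f) (i ≫ f)) ≫ i :=
            (Category.assoc _ _ _).trans ((congrArg _ hm2).trans (Category.assoc _ _ _).symm)
        _ = (i ≫ pullback.diagonal f) ≫ pullback.snd f f := by simp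
  haveI hu : UniversallyInjective (i ≫ f) := by
    rw [UniversallyInjective.iff_diagonal, surjective_iff]
    intro t
    have h1 : pullback.fst f f (m t) = i (pullback.fst (i ≫ f) (i ≫ f) t) := by
      rw [← Scheme.Hom.comp_apply, ← Scheme.Hom.comp_apply, pullback.lift_fst]
    have h2 : pullback.snd f f (m t) = i (pullback.snd (i ≫ f) (i ≫ f) t) := by
      rw [← Scheme.Hom.comp_apply, ← Scheme.Hom.comp_apply, pullback.lift_snd]
    obtain ⟨x, hx⟩ := h (m t) (h1 ▸ hmem _) (h2 ▸ hmem _)
    refine ⟨pullback.fst (i ≫ f) (i ≫ f) t, hinj ?_⟩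
    rw [← hx, fst_diagonal] at h1
    rw [← hx, h1, ← Scheme.Hom.comp_apply, hd, Scheme.Hom.comp_apply]
  refine ⟨fun a ha b hb hab => ?_, fun x hx => ?_⟩
  · obtain ⟨a, rfl⟩ := hsurj a ha
    obtain ⟨b, rfl⟩ := hsurj b hb
    exact congrArg i ((i ≫ f).injective hab)
  · obtain ⟨w, rfl⟩ := hsurj x hx
    have h13 : UniversallyInjective (i ≫ f) ↔ Function.Injective (i ≫ f) ∧
        ∀ x, ((i ≫ f).residueFieldMap x).hom.IsPurelyInseparable := (tfae_universallyInjective (i ≫ f)).out 0 2
    exact isPurelyInseparable_of_comp f i w ((h13.1 hu).2 w)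

end Radicial

section BaseChange

variable {k : Type u} [Field k]

theorem iSup_add_le_of {ι : Sort*} [Nonempty ι] {g : ι → ℕ} {a : ℕ} {b : WithBot ℕ∞}
    (h : ∀ i, dd (g i) + dd a ≤ b) : (⨆ i, dd (g i)) + dd a ≤ b := by
  rcases eq_or_ne b ⊤ with rfl | hb
  · exact le_top
  · obtain ⟨i⟩ := ‹Nonempty ι›
    induction b with
    | bot => exact absurd (h i) (by simp)
    | coe b =>
      have hb' : b ≠ ⊤ := fun he => hb (by rw [he]; rfl)
      obtain ⟨n, rfl⟩ := ENat.ne_top_iff_exists.1 hb'
      exact iSup_add_le_iff.2 fun j => Nat.cast_le (α := WithBot ℕ∞).1 (by rw [Nat.cast_add]; exact h j)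

/-- Preimages along a base change of a morphism with `d`-dimensional fibres. -/
theorem dim_preimage_baseChange {P B B' P' : Scheme.{u}} {h : P ⟶ B} {g : B' ⟶ B} {m : P' ⟶ P} {h' : P' ⟶ B'}
    (sq : IsPullback h' m g h) (qB : B ⟶ Spec (CommRingCat.of k)) [LocallyOfFiniteType qB]
    [LocallyOfFiniteType g] [LocallyOfFiniteType h] [LocallyOfFiniteType m] (d : ℕ)
    (hd : ∀ b : B, topologicalKrullDim ↥(g.fiber b) = d) {L : Set P} (hL : IsLocallyClosed L) :
    topologicalKrullDim ↥(m ⁻¹' L) = topologicalKrullDim ↥L + (d : WithBot ℕ∞) := by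
  have key : ∀ b : B, ∃ b', g b' = b ∧ d ≤ FibDim.rd g b' := fun b =>
    (FibDim.le_topologicalKrullDim_fiber_iff g b d).1 (hd b).ge
  have hle : ∀ b', FibDim.rd g b' ≤ d := fun b' => by
    have := (FibDim.le_topologicalKrullDim_fiber_iff g (g b') (FibDim.rd g b')).2 ⟨b', rfl, le_rfl⟩
    rw [hd] at this
    exact Nat.cast_le.1 this
  rw [dim_eq_iSup (m ≫ h ≫ qB) (hL.preimage m.continuous), dim_eq_iSup (h ≫ qB) hL]
  refine le_antisymm (iSup_le fun z => ?_) ?_
  · refine le_trans ?_ (add_le_add_left (le_iSup_of_le ⟨m z.1, z.2⟩ le_rfl) _)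
    rw [deg_split (h ≫ qB) m, dd_eq, dd_eq, ← Nat.cast_add]
    exact Nat.cast_le.2 (Nat.add_le_add_left ((FibDim.rd_baseChange_le sq z.1).trans (hle _)) _)
  · rcases isEmpty_or_nonempty ↥L with he | hne
    · simp
    · rw [show ((d : ℕ) : WithBot ℕ∞) = dd d from rfl]
      apply iSup_add_le_of
      rintro ⟨x, hx⟩
      obtain ⟨b', hb', hdb⟩ := key (h x)
      obtain ⟨z, hz1, hz2, hz3⟩ := FibDim.exists_rd_baseChange_eq sq b' x hb'
      refine le_iSup_of_le ⟨z, show m z ∈ L from hz2 ▸ hx⟩ ?_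
      dsimp only
      rw [deg_split (h ≫ qB) m, hz3, hz2, dd_eq, dd_eq, dd_eq, ← Nat.cast_add]
      exact Nat.cast_le.2 (Nat.add_le_add_left hdb _)

end BaseChange

end Groth.Agent.CharCyc46

namespace Groth.Agent.CharCyc46

theorem add_le_add_nat_iff (a b c e : WithBot ℕ∞) (d : ℕ) :
    a + b ≤ c + e ↔ (a + d) + (b + d) ≤ (c + d) + (e + d) := by
  rw [add_add_add_comm a, add_add_add_comm c, ← Nat.cast_add]
  refine ⟨fun h => add_le_add_left h _, fun h => ?_⟩
  generalize a + b = s at h ⊢
  generalize c + e = t at h ⊢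
  generalize d + d = n at h
  induction s with
  | bot => exact bot_le
  | coe s =>
    induction t with
    | bot => exact absurd h (by simp)
    | coe t =>
      refine WithBot.coe_le_coe.2 ((ENat.addLECancellable_natCast n).add_le_add_iff_right.1 ?_)
      rw [show ((n : ℕ) : WithBot ℕ∞) = ((n : ℕ∞) : WithBot ℕ∞) from rfl, ← WithBot.coe_add, ← WithBot.coe_add,
        WithBot.coe_le_coe] at h
      exact h

end Groth.Agent.CharCyc46
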